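import Mathlib
import Groth.Agent.Lib.SpecDense.Core

/-!
Flat algebras of finite type over an absolutely integrally closed local domain have sections
through every point of the closed fibre.
-/

universe u

namespace GrothLib.AicCover

/-- Every monic polynomial of positive degree has a root. -/
def HasMonicRoots (R : Type*) [CommRing R] : Prop :=
  ∀ p : Polynomial R, p.Monic → p.natDegree ≠ 0 → ∃ x, p.IsRoot x

/-- Integral elements of a domain over a ring with roots of monic polynomials come from it. -/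
lemma HasMonicRoots.mem_range {R D : Type*} [CommRing R] [CommRing D] [IsDomain D]
    (h : HasMonicRoots R) (f : R →+* D) {x : D} (hx : f.IsIntegralElem x) : x ∈ f.range := by
  obtain ⟨p, hp, hpx⟩ := hx
  induction hn : p.natDegree using Nat.strong_induction_on generalizing p with
  | _ n ih =>
    by_cases h0 : p.natDegree = 0
    · rw [hp.natDegree_eq_zero.1 h0, Polynomial.eval₂_one] at hpx
      exact absurd hpx one_ne_zero
    obtain ⟨r, hr⟩ := h p hp h0
    obtain ⟨q, rfl⟩ := Polynomial.dvd_iff_isRoot.2 hr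
    have hq : q.Monic := (Polynomial.monic_X_sub_C r).of_mul_monic_left hp
    rw [Polynomial.eval₂_mul, mul_eq_zero] at hpx
    rcases hpx with hpx | hpx
    · refine ⟨r, ?_⟩
      rw [Polynomial.eval₂_sub, Polynomial.eval₂_X, Polynomial.eval₂_C, sub_eq_zero] at hpx
      exact hpx.symm
    · refine ih q.natDegree ?_ q hq hpx rfl
      have : Nontrivial R := f.domain_nontrivial
      rw [← hn, (Polynomial.monic_X_sub_C r).natDegree_mul hq, Polynomial.natDegree_X_sub_C]
      omega

lemma HasMonicRoots.isIntegrallyClosed {R : Type u} [CommRing R] [IsDomain R]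
    (h : HasMonicRoots R) : IsIntegrallyClosed R := by
  rw [isIntegrallyClosed_iff (FractionRing R)]
  exact fun hx => h.mem_range _ hx

lemma algebraMap_residue_tensor {R B : Type u} [CommRing R] [IsLocalRing R] [CommRing B]
    [Algebra R B] : ∃ e : TensorProduct R (IsLocalRing.ResidueField R) B →ₗ[R]
      B ⧸ (IsLocalRing.maximalIdeal R).map (algebraMap R B),
      ∀ b, e ((1 : IsLocalRing.ResidueField R) ⊗ₜ[R] b) = Ideal.Quotient.mk _ b := by
  let ρ : IsLocalRing.ResidueField R →ₐ[R] B ⧸ (IsLocalRing.maximalIdeal R).map (algebraMap R B) :=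
    Ideal.Quotient.liftₐ _ (Algebra.ofId R _) fun a ha => by
      show Ideal.Quotient.mk _ (algebraMap R B a) = 0
      exact Ideal.Quotient.eq_zero_iff_mem.2 (Ideal.mem_map_of_mem _ ha)
  exact ⟨(Algebra.TensorProduct.lift ρ (Ideal.Quotient.mkₐ R _) fun _ _ => .all _ _).toLinearMap,
    fun b => by simp⟩

open MvPolynomial in
/-- The case of an irreducible closed fibre. -/
theorem exists_algHom_of_isPrime_nilradical {R B : Type u} [CommRing R] [IsDomain R]
    [IsLocalRing R] (hR : HasMonicRoots R) [CommRing B] [Algebra R B] [Module.Flat R B]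
    [Algebra.FiniteType R B] (Q : Ideal B) [Q.IsMaximal]
    (hQ : IsLocalRing.maximalIdeal R ≤ Q.comap (algebraMap R B))
    (hN : (nilradical (B ⧸ (IsLocalRing.maximalIdeal R).map (algebraMap R B))).IsPrime) :
    Nonempty (B →ₐ[R] R) := by
  classical
  have := hR.isIntegrallyClosed
  letI : Field (R ⧸ IsLocalRing.maximalIdeal R) := Ideal.Quotient.field _
  set I : Ideal B := (IsLocalRing.maximalIdeal R).map (algebraMap R B) with hI
  have hIQ : I ≤ Q := Ideal.map_le_iff_le_comap.2 hQ
  have : Algebra.FiniteType (R ⧸ IsLocalRing.maximalIdeal R) (B ⧸ I) := by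
    have : Algebra.FiniteType R (B ⧸ I) :=
      Algebra.FiniteType.of_surjective (Ideal.Quotient.mkₐ R I) Ideal.Quotient.mk_surjective
    exact Algebra.FiniteType.of_restrictScalars_finiteType R _ _
  set Q₀ : Ideal (B ⧸ I) := Q.map (Ideal.Quotient.mk I) with hQ₀
  have hQ₀c : Q₀.comap (Ideal.Quotient.mk I) = Q := by
    rw [hQ₀, Ideal.comap_map_of_surjective _ Ideal.Quotient.mk_surjective,
      ← RingHom.ker_eq_comap_bot, Ideal.mk_ker]
    exact sup_eq_left.2 hIQ
  have : Q₀.IsMaximal := by
    refine (Ideal.map_eq_top_or_isMaximal_of_surjective _ Ideal.Quotient.mk_surjective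
      ‹Q.IsMaximal›).resolve_left fun h => ‹Q.IsMaximal›.ne_top ?_
    rw [← hQ₀c, hQ₀, h, Ideal.comap_top]
  obtain ⟨s, g, hginj, hgfin, hgQ⟩ :=
    GrothLib.SpecDense.exists_normalization_at (k := R ⧸ IsLocalRing.maximalIdeal R) Q₀
  choose t ht using fun i => Ideal.Quotient.mk_surjective (I := I) (g (X i))
  have htQ : ∀ i, t i ∈ Q := by
    intro i
    rw [← hQ₀c, Ideal.mem_comap, ht]
    exact hgQ i
  let φ : MvPolynomial (Fin s) R →ₐ[R] B := aeval t
  let res : MvPolynomial (Fin s) R →+* MvPolynomial (Fin s) (R ⧸ IsLocalRing.maximalIdeal R) :=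
    MvPolynomial.map (Ideal.Quotient.mk _)
  have hres : (Ideal.Quotient.mk I).comp φ.toRingHom = g.toRingHom.comp res := by
    refine MvPolynomial.ringHom_ext (fun a => ?_) fun i => ?_
    · simp only [RingHom.comp_apply, res, MvPolynomial.map_C, AlgHom.toRingHom_eq_coe,
        RingHom.coe_coe, φ, aeval_C]
      rw [show (C (Ideal.Quotient.mk (IsLocalRing.maximalIdeal R) a) :
        MvPolynomial (Fin s) (R ⧸ IsLocalRing.maximalIdeal R)) = algebraMap _ _ _ from rfl,
        g.commutes]
      rfl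
    · simp only [RingHom.comp_apply, res, MvPolynomial.map_X, AlgHom.toRingHom_eq_coe,
        RingHom.coe_coe, φ, aeval_X]
      exact ht i
  -- a prime over the generic point of `R[X]` below `Q`
  have hne : ∀ (P : MvPolynomial (Fin s) R) (z : B), P ≠ 0 → z ∉ Q → φ P * z ≠ 0 := by
    intro P z hP hz hPz
    have hzN : Ideal.Quotient.mk I z ∉ nilradical (B ⧸ I) := fun h => hz (by
      rw [← hQ₀c]
      exact nilradical_le_prime Q₀ h)
    have hgN : ∀ x, g x ∈ nilradical (B ⧸ I) → x = 0 := by
      intro x hx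
      obtain ⟨n, hn⟩ := mem_nilradical.1 hx
      rw [← map_pow] at hn
      exact eq_zero_of_pow_eq_zero (hginj (hn.trans (map_zero _).symm))
    let v : (Fin s →₀ ℕ) → B := fun n => φ (monomial n 1) * z
    have hv : LinearIndependent R v := by
      refine Module.IsLocalRing.linearIndependent_of_flat v ?_
      rw [linearIndependent_iff'ₛ]
      intro S c c' hcc n hn
      choose lc hlc using fun n => IsLocalRing.residue_surjective (R := R) (c n)
      choose lc' hlc' using fun n => IsLocalRing.residue_surjective (R := R) (c' n)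
      obtain ⟨e, he⟩ := algebraMap_residue_tensor (R := R) (B := B)
      have key : Ideal.Quotient.mk I (φ (∑ n ∈ S, monomial n (lc n - lc' n)) * z) = 0 := by
        have h1 : ∀ m, c m • (TensorProduct.mk R (IsLocalRing.ResidueField R) B 1 ∘ v) m =
            (1 : IsLocalRing.ResidueField R) ⊗ₜ[R] (lc m • v m) := by
          intro m
          rw [← hlc m]
          show (IsLocalRing.residue R (lc m)) • ((1 : IsLocalRing.ResidueField R) ⊗ₜ[R] v m) = _
          rw [TensorProduct.tmul_smul, ← IsLocalRing.ResidueField.algebraMap_eq, algebraMap_smul]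
        have h2 : ∀ m, c' m • (TensorProduct.mk R (IsLocalRing.ResidueField R) B 1 ∘ v) m =
            (1 : IsLocalRing.ResidueField R) ⊗ₜ[R] (lc' m • v m) := by
          intro m
          rw [← hlc' m]
          show (IsLocalRing.residue R (lc' m)) • ((1 : IsLocalRing.ResidueField R) ⊗ₜ[R] v m) = _
          rw [TensorProduct.tmul_smul, ← IsLocalRing.ResidueField.algebraMap_eq, algebraMap_smul]
        rw [Finset.sum_congr rfl fun m _ => h1 m, Finset.sum_congr rfl fun m _ => h2 m,
          ← TensorProduct.tmul_sum, ← TensorProduct.tmul_sum] at hcc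
        have h3 := congrArg e hcc
        rw [he, he, ← sub_eq_zero, ← map_sub, ← Finset.sum_sub_distrib] at h3
        rw [← h3, map_sum φ, Finset.sum_mul]
        congr 1
        refine Finset.sum_congr rfl fun m _ => ?_
        rw [← sub_smul, show monomial m (lc m - lc' m) = (lc m - lc' m) • monomial m (1 : R) by
          rw [smul_monomial, smul_eq_mul, mul_one], map_smul, smul_mul_assoc]
      rw [map_mul] at key
      have h4 := RingHom.congr_fun hres (∑ n ∈ S, monomial n (lc n - lc' n))
      rw [show Ideal.Quotient.mk I (φ (∑ n ∈ S, monomial n (lc n - lc' n))) =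
        g (res (∑ n ∈ S, monomial n (lc n - lc' n))) from h4] at key
      have h5 := hgN _ (((hN.mem_or_mem (key.symm ▸ (nilradical (B ⧸ I)).zero_mem)).resolve_right hzN))
      have h6 := congrArg (coeff n) h5
      simp only [res, map_sum, coeff_sum, MvPolynomial.map_monomial, coeff_monomial, coeff_zero,
        Finset.sum_ite_eq', hn, if_true] at h6
      rw [map_sub, sub_eq_zero] at h6
      rw [← hlc n, ← hlc' n]
      exact h6
    have h0 : ∑ n ∈ P.support, P.coeff n • v n = 0 := by
      rw [← hPz]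
      conv_rhs => rw [P.as_sum, map_sum, Finset.sum_mul]
      refine Finset.sum_congr rfl fun m _ => ?_
      rw [show monomial m (P.coeff m) = P.coeff m • monomial m (1 : R) by
        rw [smul_monomial, smul_eq_mul, mul_one], map_smul, smul_mul_assoc]
    obtain ⟨n, hn⟩ := support_nonempty.2 hP
    exact (mem_support_iff.1 hn) (linearIndependent_iff'.1 hv _ _ h0 n hn)
  let M : Submonoid B := (nonZeroDivisors (MvPolynomial (Fin s) R)).map φ.toMonoidHom ⊔ Q.primeCompl
  obtain ⟨p₀, hp₀, -, hp₀M⟩ := Ideal.exists_le_prime_disjoint (⊥ : Ideal B) M (by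
    rw [Set.disjoint_left]
    intro x hx hxM
    obtain ⟨-, ⟨P, hP, rfl⟩, z, hz, rfl⟩ := Submonoid.mem_sup.1 hxM
    exact hne P z (nonZeroDivisors.ne_zero hP) hz hx)
  have hp₀Q : p₀ ≤ Q := fun x hx => by
    by_contra hxQ
    exact Set.disjoint_left.1 hp₀M hx (Submonoid.mem_sup_right (show x ∈ Q.primeCompl from hxQ))
  have hp₀φ : ∀ P, φ P ∈ p₀ → P = 0 := fun P hP => by
    by_contra h
    exact Set.disjoint_left.1 hp₀M hP
      (Submonoid.mem_sup_left ⟨P, mem_nonZeroDivisors_of_ne_zero h, rfl⟩)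
  -- pass to the quotient domain
  have hqk : RingHom.ker (Ideal.Quotient.mk p₀) ≤ Q := by rw [Ideal.mk_ker]; exact hp₀Q
  let Q' : Ideal (B ⧸ p₀) := Q.map (Ideal.Quotient.mk p₀)
  have hQ'c : Q'.comap (Ideal.Quotient.mk p₀) = Q := by
    rw [Ideal.comap_map_of_surjective _ Ideal.Quotient.mk_surjective, ← RingHom.ker_eq_comap_bot]
    exact sup_eq_left.2 hqk
  have : Q'.IsPrime := Ideal.map_isPrime_of_surjective Ideal.Quotient.mk_surjective hqk
  let φ' : MvPolynomial (Fin s) R →ₐ[R] B ⧸ p₀ := (Ideal.Quotient.mkₐ R p₀).comp φ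
  have hφ'inj : Function.Injective φ' := (injective_iff_map_eq_zero _).2 fun P hP =>
    hp₀φ P (Ideal.Quotient.eq_zero_iff_mem.1 hP)
  letI : Algebra (MvPolynomial (Fin s) R) (B ⧸ p₀) := φ'.toRingHom.toAlgebra
  have hφalg : ∀ P, algebraMap (MvPolynomial (Fin s) R) (B ⧸ p₀) P = φ' P := fun _ => rfl
  have : IsScalarTower R (MvPolynomial (Fin s) R) (B ⧸ p₀) :=
    IsScalarTower.of_algebraMap_eq fun x => (φ'.commutes x).symm
  have : Algebra.FiniteType R (B ⧸ p₀) :=
    Algebra.FiniteType.of_surjective (Ideal.Quotient.mkₐ R p₀) Ideal.Quotient.mk_surjective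
  have hft := Algebra.FiniteType.of_restrictScalars_finiteType R (MvPolynomial (Fin s) R) (B ⧸ p₀)
  set P₀ : Ideal (MvPolynomial (Fin s) R) := Q'.under _ with hP₀
  have hqf : Algebra.WeaklyQuasiFiniteAt (MvPolynomial (Fin s) R) Q' := by
    have hI₁ : I ≤ (P₀.map (algebraMap (MvPolynomial (Fin s) R) (B ⧸ p₀))).comap
        (Ideal.Quotient.mk p₀) := by
      rw [hI, Ideal.map_le_iff_le_comap]
      intro x hx
      rw [Ideal.mem_comap, Ideal.mem_comap, show Ideal.Quotient.mk p₀ (algebraMap R B x) =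
        algebraMap R (B ⧸ p₀) x from rfl,
        IsScalarTower.algebraMap_apply R (MvPolynomial (Fin s) R) (B ⧸ p₀) x]
      refine Ideal.mem_map_of_mem _ ?_
      show algebraMap _ _ (algebraMap R (MvPolynomial (Fin s) R) x) ∈ Q'
      rw [← IsScalarTower.algebraMap_apply]
      exact Ideal.mem_map_of_mem _ (hQ hx)
    have hfin : Module.Finite (MvPolynomial (Fin s) R)
        ((B ⧸ p₀) ⧸ P₀.map (algebraMap (MvPolynomial (Fin s) R) (B ⧸ p₀))) := by
      rw [← RingHom.finite_algebraMap]
      let π : B ⧸ I →+* (B ⧸ p₀) ⧸ P₀.map (algebraMap (MvPolynomial (Fin s) R) (B ⧸ p₀)) :=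
        Ideal.Quotient.lift I ((Ideal.Quotient.mk _).comp (Ideal.Quotient.mk p₀))
          fun x hx => Ideal.Quotient.eq_zero_iff_mem.2 (hI₁ hx)
      have hπ : Function.Surjective π := Ideal.Quotient.lift_surjective_of_surjective _ _
        (Ideal.Quotient.mk_surjective.comp Ideal.Quotient.mk_surjective)
      have h1 : RingHom.Finite res := RingHom.Finite.of_surjective _
        (MvPolynomial.map_surjective _ Ideal.Quotient.mk_surjective)
      have h2 := (RingHom.Finite.of_surjective _ hπ).comp (RingHom.Finite.comp hgfin h1)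
      convert h2 using 1
      rw [← hres, ← RingHom.comp_assoc, Ideal.Quotient.lift_comp_mk]
      rfl
    infer_instance
  obtain ⟨S', hS', r, hrQ, hbij⟩ :=
    Algebra.QuasiFiniteAt.exists_fg_and_exists_notMem_and_awayMap_bijective
      (R := MvPolynomial (Fin s) R) Q'
  have : Module.Finite (MvPolynomial (Fin s) R) S' := ⟨(Submodule.fg_top _).2 hS'⟩
  have : FaithfulSMul (MvPolynomial (Fin s) R) S' :=
    (faithfulSMul_iff_algebraMap_injective _ _).2 fun x y h => hφ'inj (congrArg Subtype.val h)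
  have : (RingHom.ker (eval (0 : Fin s → R))).IsPrime := RingHom.ker_isPrime _
  set QS : Ideal S' := Q'.comap S'.val.toRingHom with hQS
  have : QS.LiesOver P₀ := ⟨rfl⟩
  have hle : RingHom.ker (eval (0 : Fin s → R)) ≤ P₀ := by
    intro P hP
    show algebraMap _ (B ⧸ p₀) P ∈ Q'
    rw [hφalg]
    refine Ideal.mem_map_of_mem _ ?_
    rw [← Ideal.Quotient.eq_zero_iff_mem]
    have : (Ideal.Quotient.mk Q).comp φ.toRingHom =
        ((Ideal.Quotient.mk Q).comp (algebraMap R B)).comp (eval (0 : Fin s → R)) := by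
      refine MvPolynomial.ringHom_ext (fun x => by simp [φ]) fun i => ?_
      simp only [RingHom.comp_apply, AlgHom.toRingHom_eq_coe, RingHom.coe_coe, φ, aeval_X, eval_X]
      rw [Ideal.Quotient.eq_zero_iff_mem.2 (htQ i), Pi.zero_apply, map_zero, map_zero]
    have := RingHom.congr_fun this P
    simp only [RingHom.comp_apply, AlgHom.toRingHom_eq_coe, RingHom.coe_coe] at this
    refine this.trans ?_
    rw [RingHom.mem_ker.1 hP, map_zero, map_zero]
  obtain ⟨Q₁, hQ₁, hQ₁p, hQ₁o⟩ := Ideal.exists_ideal_le_liesOver_of_le QS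
    (p := RingHom.ker (eval (0 : Fin s → R))) (q := P₀) hle
  have hmem : ∀ P, algebraMap (MvPolynomial (Fin s) R) S' P ∈ Q₁ ↔ eval (0 : Fin s → R) P = 0 :=
    fun P => by
      rw [← RingHom.mem_ker, hQ₁o.over]
      rfl
  -- `S' / Q₁` is `R`
  let ρ : R →+* S' ⧸ Q₁ := (Ideal.Quotient.mk Q₁).comp
    ((algebraMap (MvPolynomial (Fin s) R) S').comp (algebraMap R (MvPolynomial (Fin s) R)))
  have hρ0 : ∀ P, Ideal.Quotient.mk Q₁ (algebraMap (MvPolynomial (Fin s) R) S' P) =
      ρ (eval (0 : Fin s → R) P) := by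
    intro P
    rw [← sub_eq_zero, RingHom.comp_apply, RingHom.comp_apply, ← map_sub, ← map_sub,
      Ideal.Quotient.eq_zero_iff_mem, hmem]
    simp [MvPolynomial.algebraMap_eq]
  have hρsurj : Function.Surjective ρ := by
    intro y
    obtain ⟨x, rfl⟩ := Ideal.Quotient.mk_surjective y
    obtain ⟨p, hp, hpx⟩ := Algebra.IsIntegral.isIntegral (R := MvPolynomial (Fin s) R) x
    refine hR.mem_range ρ ⟨p.map (eval (0 : Fin s → R)), hp.map _, ?_⟩
    rw [Polynomial.eval₂_map, show ρ.comp (eval (0 : Fin s → R)) =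
      (Ideal.Quotient.mk Q₁).comp (algebraMap (MvPolynomial (Fin s) R) S') from
        RingHom.ext fun P => (hρ0 P).symm, ← Polynomial.hom_eval₂, hpx, map_zero]
  have hρinj : Function.Injective ρ := (injective_iff_map_eq_zero _).2 fun a ha => by
    have := (hmem (algebraMap R (MvPolynomial (Fin s) R) a)).1 (Ideal.Quotient.eq_zero_iff_mem.1 ha)
    simpa using this
  let eρ := RingEquiv.ofBijective ρ ⟨hρinj, hρsurj⟩
  let ψ : S' →+* R := eρ.symm.toRingHom.comp (Ideal.Quotient.mk Q₁)
  have hψ : ∀ x, ρ (ψ x) = Ideal.Quotient.mk Q₁ x := fun x => eρ.apply_symm_apply _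
  have hψr : IsUnit (ψ r) := by
    by_contra h
    refine hrQ ?_
    obtain ⟨y, hy, hyr⟩ : ∃ y ∈ IsLocalRing.maximalIdeal R, ρ y = Ideal.Quotient.mk Q₁ r :=
      ⟨ψ r, h, hψ r⟩
    have h1 : r - algebraMap _ S' (algebraMap R (MvPolynomial (Fin s) R) y) ∈ Q₁ := by
      rw [← Ideal.Quotient.eq_zero_iff_mem, map_sub, ← hyr, sub_eq_zero]
      rfl
    have h2 : algebraMap _ S' (algebraMap R (MvPolynomial (Fin s) R) y) ∈ QS := by
      show algebraMap _ (B ⧸ p₀) (algebraMap R (MvPolynomial (Fin s) R) y) ∈ Q'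
      rw [← IsScalarTower.algebraMap_apply]
      exact Ideal.mem_map_of_mem _ (hQ hy)
    have := QS.add_mem (hQ₁ h1) h2
    rwa [sub_add_cancel] at this
  let e := RingEquiv.ofBijective _ hbij
  let Ψ : B →+* R := (IsLocalization.Away.lift (S := Localization.Away r) r hψr).comp
    (e.symm.toRingHom.comp ((algebraMap (B ⧸ p₀) (Localization.Away r.1)).comp (Ideal.Quotient.mk p₀)))
  refine ⟨{ Ψ with commutes' := fun a => ?_ }⟩
  show IsLocalization.Away.lift r hψr (e.symm (algebraMap (B ⧸ p₀) (Localization.Away r.1)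
    (algebraMap R (B ⧸ p₀) a))) = a
  rw [IsScalarTower.algebraMap_apply R (MvPolynomial (Fin s) R) (B ⧸ p₀) a]
  have : e.symm (algebraMap (B ⧸ p₀) (Localization.Away r.1)
      (algebraMap _ (B ⧸ p₀) (algebraMap R (MvPolynomial (Fin s) R) a))) =
      algebraMap S' (Localization.Away r) (algebraMap _ S' (algebraMap R (MvPolynomial (Fin s) R) a)) := by
    rw [RingEquiv.symm_apply_eq]
    show _ = Localization.awayMap S'.val.toRingHom r (algebraMap S' (Localization.Away r)
      (algebraMap _ S' (algebraMap R (MvPolynomial (Fin s) R) a)))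
    rw [Localization.awayMap, IsLocalization.Away.map, IsLocalization.map_eq]
    rfl
  rw [this, IsLocalization.Away.lift_eq]
  exact hρinj ((hψ _).trans rfl)

end GrothLib.AicCover
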