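import Mathlib
import Groth.Agent.Lib.AicCover.Section

/-!
Sections of flat algebras of finite type over absolutely integrally closed local domains, and
local rings of rings of integral elements in products of algebraically closed fields.
-/

universe u

namespace GrothLib.AicCover

/-- A flat algebra of finite type with nonempty closed fibre over a local domain in which
monic polynomials have roots admits a section. -/
theorem exists_algHom_of_flat {R B : Type u} [CommRing R] [IsDomain R]
    [IsLocalRing R] (hR : HasMonicRoots R) [CommRing B] [Algebra R B] [Module.Flat R B]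
    [Algebra.FiniteType R B]
    (hne : (IsLocalRing.maximalIdeal R).map (algebraMap R B) ≠ ⊤) : Nonempty (B →ₐ[R] R) := by
  classical
  set I : Ideal B := (IsLocalRing.maximalIdeal R).map (algebraMap R B) with hI
  letI : Field (R ⧸ IsLocalRing.maximalIdeal R) := Ideal.Quotient.field _
  have : Algebra.FiniteType (R ⧸ IsLocalRing.maximalIdeal R) (B ⧸ I) := by
    have : Algebra.FiniteType R (B ⧸ I) :=
      Algebra.FiniteType.of_surjective (Ideal.Quotient.mkₐ R I) Ideal.Quotient.mk_surjective
    exact Algebra.FiniteType.of_restrictScalars_finiteType R _ _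
  have : IsNoetherianRing (B ⧸ I) :=
    Algebra.FiniteType.isNoetherianRing (R ⧸ IsLocalRing.maximalIdeal R) _
  have : Nontrivial (B ⧸ I) := Ideal.Quotient.nontrivial_iff.2 hne
  have hfin : (minimalPrimes (B ⧸ I)).Finite := minimalPrimes.finite_of_isNoetherianRing _
  obtain ⟨Pm, hPm⟩ : ∃ P, P ∈ minimalPrimes (B ⧸ I) :=
    Set.nonempty_coe_sort.1 (Ideal.nonempty_minimalPrimes bot_ne_top)
  have hPmp : Pm.IsPrime := hPm.1.1
  have hex : ∀ P : minimalPrimes (B ⧸ I), ∃ x, x ∉ Pm ∧ (P.1 ≠ Pm → x ∈ P.1) := by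
    intro P
    by_cases h : P.1 = Pm
    · exact ⟨1, fun h1 => hPmp.ne_top ((Ideal.eq_top_iff_one _).2 h1), fun h' => absurd h h'⟩
    · obtain ⟨x, hx, hxn⟩ := SetLike.not_le_iff_exists.1
        fun hle => h (le_antisymm hle (hPm.2 P.2.1 hle))
      exact ⟨x, hxn, fun _ => hx⟩
  choose x hxn hx using hex
  have : Fintype (minimalPrimes (B ⧸ I)) := hfin.fintype
  obtain ⟨h, hh⟩ := Ideal.Quotient.mk_surjective (I := I) (∏ P, x P)
  have hhPm : Ideal.Quotient.mk I h ∉ Pm := by
    rw [hh]
    intro hmem
    obtain ⟨P, -, hP⟩ := Ideal.IsPrime.prod_mem_iff.1 hmem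
    exact hxn P hP
  have hkey : ∀ P : Ideal B, P.IsPrime → I ≤ P → h ∉ P →
      Pm.comap (Ideal.Quotient.mk I) ≤ P := by
    intro P hP hIP hhP
    have : (P.map (Ideal.Quotient.mk I)).IsPrime :=
      Ideal.map_isPrime_of_surjective Ideal.Quotient.mk_surjective (by rwa [Ideal.mk_ker])
    have hc : (P.map (Ideal.Quotient.mk I)).comap (Ideal.Quotient.mk I) = P := by
      rw [Ideal.comap_map_of_surjective _ Ideal.Quotient.mk_surjective, ← RingHom.ker_eq_comap_bot,
        Ideal.mk_ker]
      exact sup_eq_left.2 hIP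
    obtain ⟨P', hP', hle⟩ := Ideal.exists_minimalPrimes_le
      (show (⊥ : Ideal (B ⧸ I)) ≤ P.map (Ideal.Quotient.mk I) from bot_le)
    rw [← hc]
    refine Ideal.comap_mono ?_
    by_contra hcon
    have hne' : P' ≠ Pm := fun e => hcon (e ▸ hle)
    refine hhP ?_
    rw [← hc, Ideal.mem_comap, hh]
    exact hle (Ideal.prod_mem _ (Finset.mem_univ (⟨P', hP'⟩ : minimalPrimes (B ⧸ I))) (hx ⟨P', hP'⟩ hne'))
  have : (Pm.comap (Ideal.Quotient.mk I)).IsPrime := inferInstance
  have hdisj : Disjoint (Submonoid.powers h : Set B) (Pm.comap (Ideal.Quotient.mk I)) := by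
    rw [Set.disjoint_left]
    rintro - ⟨n, rfl⟩ hn
    exact hhPm ((inferInstance : (Pm.comap (Ideal.Quotient.mk I)).IsPrime).mem_of_pow_mem n hn)
  set P' : Ideal (Localization.Away h) :=
    (Pm.comap (Ideal.Quotient.mk I)).map (algebraMap B _) with hP'
  have hP'p : P'.IsPrime :=
    IsLocalization.isPrime_of_isPrime_disjoint (Submonoid.powers h) _ _ inferInstance hdisj
  have hmI : (IsLocalRing.maximalIdeal R).map (algebraMap R (Localization.Away h)) =
      I.map (algebraMap B (Localization.Away h)) := by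
    rw [hI, Ideal.map_map, ← IsScalarTower.algebraMap_eq]
  have hIPm : I ≤ Pm.comap (Ideal.Quotient.mk I) := fun a ha => by
    rw [Ideal.mem_comap, Ideal.Quotient.eq_zero_iff_mem.2 ha]
    exact Pm.zero_mem
  set J : Ideal (Localization.Away h) :=
    (IsLocalRing.maximalIdeal R).map (algebraMap R (Localization.Away h)) with hJ
  have hJP' : J ≤ P' := hmI ▸ Ideal.map_mono hIPm
  have hN : nilradical (Localization.Away h ⧸ J) = P'.map (Ideal.Quotient.mk J) := by
    have : (P'.map (Ideal.Quotient.mk J)).IsPrime :=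
      Ideal.map_isPrime_of_surjective Ideal.Quotient.mk_surjective (by rwa [Ideal.mk_ker])
    refine le_antisymm (nilradical_le_prime _) ?_
    rw [Ideal.map_le_iff_le_comap, nilradical_eq_sInf, Ideal.comap_sInf]
    refine le_iInf₂ fun K (hK : K.IsPrime) => ?_
    rw [Ideal.map_le_iff_le_comap]
    refine hkey _ inferInstance ?_ ?_
    · refine Ideal.map_le_iff_le_comap.1 (hmI.symm.le.trans ?_)
      intro a ha
      rw [Ideal.mem_comap, Ideal.Quotient.eq_zero_iff_mem.2 ha]
      exact K.zero_mem
    · intro hmem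
      exact (inferInstance : (K.comap (Ideal.Quotient.mk J)).IsPrime).ne_top
        (Ideal.eq_top_of_isUnit_mem _ hmem (IsLocalization.Away.algebraMap_isUnit h))
  obtain ⟨Q, hQ, hQP⟩ := Ideal.exists_le_maximal P' hP'p.ne_top
  have hnil : (nilradical (Localization.Away h ⧸ J)).IsPrime :=
    hN ▸ Ideal.map_isPrime_of_surjective Ideal.Quotient.mk_surjective (by rwa [Ideal.mk_ker])
  have : Module.Flat B (Localization.Away h) := IsLocalization.flat _ (Submonoid.powers h)
  have : Module.Flat R (Localization.Away h) := Module.Flat.trans R B _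
  have : Algebra.FiniteType B (Localization.Away h) :=
    IsLocalization.finiteType_of_monoid_fg (Submonoid.powers h) _
  have : Algebra.FiniteType R (Localization.Away h) :=
    Algebra.FiniteType.trans (S := B) inferInstance inferInstance
  obtain ⟨σ⟩ := exists_algHom_of_isPrime_nilradical hR Q
    (Ideal.map_le_iff_le_comap.1 (hJP'.trans hQP)) hnil
  exact ⟨σ.comp (IsScalarTower.toAlgHom R B _)⟩

/-- Complementary idempotents for orthogonal elements. -/
def HasSplitting (C : Type*) [CommRing C] : Prop :=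
  ∀ a b : C, a * b = 0 → ∃ e : C, e * e = e ∧ e * a = a ∧ e * b = 0

variable {C L : Type u} [CommRing C] [CommRing L] [Algebra C L] (p : Ideal C) [p.IsPrime]
  [IsLocalization.AtPrime L p]

include p in
lemma isDomain_of_hasSplitting (hC : HasSplitting C) : IsDomain L := by
  have : IsLocalRing L := IsLocalization.AtPrime.isLocalRing L p
  have : NoZeroDivisors L := by
    refine ⟨fun {x y} hxy => ?_⟩
    obtain ⟨a, s, rfl⟩ := IsLocalization.exists_mk'_eq p.primeCompl x
    obtain ⟨b, t, rfl⟩ := IsLocalization.exists_mk'_eq p.primeCompl y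
    rw [← IsLocalization.mk'_mul, IsLocalization.mk'_eq_zero_iff] at hxy
    obtain ⟨m, hm⟩ := hxy
    rw [← mul_assoc] at hm
    obtain ⟨e, he, hea, heb⟩ := hC _ _ hm
    rw [IsLocalization.mk'_eq_zero_iff, IsLocalization.mk'_eq_zero_iff]
    by_cases hep : e ∈ p
    · left
      have h1 : (1 - e : C) ∉ p := fun h1 => ‹p.IsPrime›.ne_top ((Ideal.eq_top_iff_one _).2
        (by simpa using p.add_mem h1 hep))
      exact ⟨⟨_, h1⟩ * m, by
        show (1 - e) * m.1 * a = 0
        rw [mul_assoc, sub_mul, one_mul, hea, sub_self]⟩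
    · exact Or.inr ⟨⟨e, hep⟩, heb⟩
  exact NoZeroDivisors.to_isDomain L

include p in
lemma hasMonicRoots_of_isLocalization (hC : HasMonicRoots C) : HasMonicRoots L := by
  classical
  intro P hP hdeg
  obtain ⟨s, hs⟩ := IsLocalization.exist_integer_multiples p.primeCompl
    (Finset.range P.natDegree) P.coeff
  set n := P.natDegree with hn
  choose b hb using hs
  let q : Polynomial C := Polynomial.X ^ n + ∑ i : Fin n,
    Polynomial.C (b i (Finset.mem_range.2 i.2) * (s : C) ^ (n - i.1 - 1)) * Polynomial.X ^ i.1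
  have hlt : (∑ i : Fin n, Polynomial.C (b i (Finset.mem_range.2 i.2) * (s : C) ^ (n - i.1 - 1)) *
      Polynomial.X ^ i.1).degree < (n : WithBot ℕ) := Polynomial.degree_sum_fin_lt _
  have hq : q.Monic := Polynomial.monic_X_pow_add hlt
  have hCn : Nontrivial C := ⟨⟨0, 1, fun h => ‹p.IsPrime›.ne_top
    ((Ideal.eq_top_iff_one _).2 (h ▸ p.zero_mem))⟩⟩
  have hqd : q.natDegree ≠ 0 := by
    have : q.degree = (n : WithBot ℕ) := by
      show (Polynomial.X ^ n + _).degree = _
      rw [Polynomial.degree_add_eq_left_of_degree_lt (by rwa [Polynomial.degree_X_pow]),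
        Polynomial.degree_X_pow]
    rw [Polynomial.natDegree_eq_of_degree_eq_some this]
    exact hdeg
  obtain ⟨c, hc⟩ := hC q hq hqd
  refine ⟨IsLocalization.mk' L c s, ?_⟩
  have hu : IsUnit (algebraMap C L (s : C) ^ n) := (IsLocalization.map_units L s).pow n
  rw [Polynomial.IsRoot, ← hu.mul_right_eq_zero, Polynomial.eval_eq_sum_range,
    Finset.sum_range_succ, ← hn, hP.coeff_natDegree, one_mul]
  have h1 : algebraMap C L c = algebraMap C L (s : C) * IsLocalization.mk' L c s :=
    (IsLocalization.mk'_spec' L c s).symm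
  have h2 := congrArg (algebraMap C L) hc
  simp only [q, Polynomial.eval_add, Polynomial.eval_pow, Polynomial.eval_X,
    Polynomial.eval_finsetSum, Polynomial.eval_mul, Polynomial.eval_C, map_add, map_sum, map_mul,
    map_pow, map_zero, h1] at h2
  rw [← h2, mul_add, Finset.mul_sum, ← Fin.sum_univ_eq_sum_range, mul_pow, add_comm]
  congr 1
  refine Finset.sum_congr rfl fun i _ => ?_
  rw [hb i (Finset.mem_range.2 i.2), Algebra.smul_def, mul_pow]
  obtain ⟨k, hk⟩ : ∃ k, n = i.1 + k + 1 := ⟨n - i.1 - 1, by omega⟩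
  rw [show n - i.1 - 1 = k by omega, show algebraMap C L (s : C) ^ n =
    algebraMap C L (s : C) ^ (i.1 + k + 1) from congrArg _ hk, pow_succ, pow_add]
  ring

end GrothLib.AicCover
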