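import Mathlib
import Groth.Agent.Lib.AicCover.Points

/-!
The absolutely integrally closed cover of a scheme: over an affine open `U` it is the spectrum
of the integral closure of `Γ(S, U)` in the product of algebraic closures of the residue
fields at the points of `U`.
-/

universe u

open CategoryTheory Limits AlgebraicGeometry Opposite

namespace GrothLib.AicCover

variable (S : Scheme.{u})

/-- The product of algebraic closures of the residue fields at the points of an open. -/
abbrev Prd (U : S.Opens) : Type u := ∀ s : (U : Set S), AlgebraicClosure (S.residueField s.1)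

/-- Evaluation of a section at every point. -/
noncomputable def ev (U : S.Opens) : Γ(S, U) →+* Prd S U :=
  Pi.ringHom fun s => (algebraMap (S.residueField s.1) (AlgebraicClosure _)).comp
    (S.evaluation U s.1 s.2).hom

noncomputable instance algebraPrd (U : S.Opens) : Algebra Γ(S, U) (Prd S U) := (ev S U).toAlgebra

/-- Restriction of tuples. -/
noncomputable def resPrd {U V : S.Opens} (h : V ≤ U) : Prd S U →+* Prd S V :=
  Pi.ringHom fun s => Pi.evalRingHom _ (⟨s.1, h s.2⟩ : (U : Set S))

lemma resPrd_ev {U V : S.Opens} (h : V ≤ U) (a : Γ(S, U)) :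
    resPrd S h (ev S U a) = ev S V (S.presheaf.map (homOfLE h).op a) := by
  funext s
  show algebraMap _ _ (S.evaluation U s.1 (h s.2) a) =
    algebraMap _ _ (S.evaluation V s.1 s.2 (S.presheaf.map (homOfLE h).op a))
  congr 1
  simp [Scheme.evaluation, LocallyRingedSpace.evaluation, TopCat.Presheaf.germ_res_apply]

/-- The presheaf of integral elements. -/
noncomputable def diagram : S.Opensᵒᵖ ⥤ CommRingCat.{u} where
  obj U := .of (integralClosure Γ(S, U.unop) (Prd S U.unop))
  map {V U} i := CommRingCat.ofHom ((resPrd S i.unop.le).restrict _ _ fun x hx => by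
    obtain ⟨p, hp, hpx⟩ := hx
    refine ⟨p.map (S.presheaf.map i).hom, hp.map _, ?_⟩
    rw [Polynomial.eval₂_map]
    have h : (algebraMap Γ(S, U.unop) (Prd S U.unop)).comp (S.presheaf.map i).hom =
        (resPrd S i.unop.le).comp (algebraMap Γ(S, V.unop) (Prd S V.unop)) :=
      RingHom.ext fun a => (resPrd_ev S i.unop.le a).symm
    rw [h, ← Polynomial.hom_eval₂, hpx, map_zero])
  map_id U := rfl
  map_comp i j := rfl

/-- The map from the structure presheaf. -/
noncomputable def diagramMap : S.presheaf ⟶ diagram S where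
  app U := CommRingCat.ofHom (algebraMap Γ(S, U.unop) (integralClosure Γ(S, U.unop) (Prd S U.unop)))
  naturality {U V} i := by
    ext x
    exact Subtype.ext (resPrd_ev S i.unop.le x).symm

open Scheme.AffineZariskiSite in
lemma coequifibered_diagramMap :
    ((toOpensFunctor S).op.whiskerLeft (diagramMap S)).Coequifibered := by
  classical
  refine coequifibered_iff_forall_isLocalizationAway.mpr fun U r => ?_
  letI : Algebra (integralClosure Γ(S, U.1) (Prd S U.1))
      (integralClosure Γ(S, S.basicOpen r) (Prd S (S.basicOpen r))) :=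
    ((diagram S).map (homOfLE (S.basicOpen_le r)).op).hom.toAlgebra
  change IsLocalization.Away ((algebraMap Γ(S, U.1) (integralClosure Γ(S, U.1) (Prd S U.1))) r)
    (integralClosure Γ(S, S.basicOpen r) (Prd S (S.basicOpen r)))
  have halg : ∀ x, ((algebraMap (integralClosure Γ(S, U.1) (Prd S U.1))
      (integralClosure Γ(S, S.basicOpen r) (Prd S (S.basicOpen r)))) x).1 =
        resPrd S (S.basicOpen_le r) x.1 := fun x => rfl
  have hout : ∀ s : (U.1 : Set S), s.1 ∉ S.basicOpen r → ev S U.1 r s = 0 := fun s hs => by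
    show algebraMap _ _ (S.evaluation U.1 s.1 s.2 r) = 0
    rw [(S.evaluation_eq_zero_iff_notMem_basicOpen s.1 s.2 r).2 hs, map_zero]
  refine IsLocalization.Away.mk _ ?_ (fun z => ?_) (fun a b hab => ?_)
  · have hu : IsUnit (S.presheaf.map (homOfLE (S.basicOpen_le r)).op r) :=
      RingedSpace.isUnit_res_basicOpen _ r
    have h2 := hu.map (algebraMap Γ(S, S.basicOpen r)
      (integralClosure Γ(S, S.basicOpen r) (Prd S (S.basicOpen r))))
    convert h2 using 1
    exact Subtype.ext (resPrd_ev S _ r)
  · letI : Algebra Γ(S, U.1) (Prd S (S.basicOpen r)) :=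
      ((ev S (S.basicOpen r)).comp (S.presheaf.map (homOfLE (S.basicOpen_le r)).op).hom).toAlgebra
    have : IsScalarTower Γ(S, U.1) Γ(S, S.basicOpen r) (Prd S (S.basicOpen r)) :=
      IsScalarTower.of_algebraMap_eq fun _ => rfl
    have : IsLocalization.Away r Γ(S, S.basicOpen r) := U.2.isLocalization_basicOpen _
    obtain ⟨⟨-, n, rfl⟩, hint⟩ := IsIntegral.exists_multiple_integral_of_isLocalization
      (Submonoid.powers r) (R := Γ(S, U.1)) (Rₘ := Γ(S, S.basicOpen r)) z.1 z.2
    obtain ⟨P, hP, hPz⟩ := hint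
    set w : Prd S (S.basicOpen r) := (r ^ n) • z.1 with hw
    let y : Prd S U.1 := fun s => if h : s.1 ∈ S.basicOpen r then w ⟨s.1, h⟩ else 0
    have hy : IsIntegral Γ(S, U.1) y := by
      refine ⟨Polynomial.X * P, Polynomial.monic_X.mul hP, ?_⟩
      funext s
      show Pi.evalRingHom _ s (Polynomial.eval₂ (ev S U.1) y (Polynomial.X * P)) = 0
      rw [Polynomial.hom_eval₂, Polynomial.eval₂_mul, Polynomial.eval₂_X]
      by_cases hs : s.1 ∈ S.basicOpen r
      · have h3 : Pi.evalRingHom _ (⟨s.1, hs⟩ : (S.basicOpen r : Set S))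
            (Polynomial.eval₂ (algebraMap Γ(S, U.1) (Prd S (S.basicOpen r))) w P) = 0 := by
          rw [show Polynomial.eval₂ (algebraMap Γ(S, U.1) (Prd S (S.basicOpen r))) w P = 0 from hPz,
            map_zero]
        rw [Polynomial.hom_eval₂] at h3
        have hys : Pi.evalRingHom _ s y = w ⟨s.1, hs⟩ := dif_pos hs
        have hhom : (Pi.evalRingHom _ s).comp (ev S U.1) =
            (Pi.evalRingHom _ (⟨s.1, hs⟩ : (S.basicOpen r : Set S))).comp
              (algebraMap Γ(S, U.1) (Prd S (S.basicOpen r))) := RingHom.ext fun a =>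
          congrFun (resPrd_ev S (S.basicOpen_le r) a) ⟨s.1, hs⟩
        rw [hys, hhom]
        exact mul_eq_zero_of_right _ h3
      · have hys : Pi.evalRingHom _ s y = 0 := dif_neg hs
        rw [hys, zero_mul]
    refine ⟨n, ⟨y, hy⟩, Subtype.ext ?_⟩
    rw [Subalgebra.coe_mul, ← map_pow]
    show z.1 * resPrd S (S.basicOpen_le r) ((algebraMap Γ(S, U.1)
      (integralClosure Γ(S, U.1) (Prd S U.1)) r) ^ n).1 = resPrd S (S.basicOpen_le r) y
    rw [← map_pow, show (algebraMap Γ(S, U.1) (integralClosure Γ(S, U.1) (Prd S U.1)) (r ^ n)).1 =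
      ev S U.1 (r ^ n) from rfl, resPrd_ev, mul_comm]
    funext s
    show _ = (if h : s.1 ∈ S.basicOpen r then w ⟨s.1, h⟩
      else (0 : AlgebraicClosure (S.residueField s.1)))
    refine Eq.trans ?_ (dif_pos (show s.1 ∈ S.basicOpen r from s.2)).symm
    rw [hw, Algebra.smul_def]
    rfl
  · refine ⟨1, Subtype.ext ?_⟩
    rw [pow_one, Subalgebra.coe_mul, Subalgebra.coe_mul]
    funext s
    show ev S U.1 r s * a.1 s = ev S U.1 r s * b.1 s
    by_cases hs : s.1 ∈ S.basicOpen r
    · rw [show a.1 s = b.1 s from congrFun (congrArg Subtype.val hab) ⟨s.1, hs⟩]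
    · rw [hout s hs, zero_mul, zero_mul]

/-- The gluing data of the cover. -/
noncomputable def glueData :=
  Scheme.AffineZariskiSite.relativeGluingData (coequifibered_diagramMap S)

instance : ((glueData S).functor ⋙ Scheme.forget).IsLocallyDirected :=
  Scheme.Cover.RelativeGluingData.instIsLocallyDirectedI₀CompFunctorForgetOfIsThin ..

/-- The absolutely integrally closed cover. -/
noncomputable def cover : Scheme.{u} := (glueData S).glued

/-- The structure map of the cover. -/
noncomputable def π : cover S ⟶ S := (glueData S).toBase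

/-- The affine chart over an affine open. -/
noncomputable def chart (U : S.affineOpens) :
    Spec (.of (integralClosure Γ(S, U.1) (Prd S U.1))) ⟶ cover S :=
  (glueData S).cover.f U

instance (U : S.affineOpens) : IsOpenImmersion (chart S U) :=
  (glueData S).cover.map_prop U

lemma chart_π (U : S.affineOpens) :
    chart S U ≫ π S = Spec.map ((diagramMap S).app (.op U.1)) ≫ U.2.fromSpec :=
  colimit.ι_desc _ _

set_option backward.isDefEq.respectTransparency.types false in
lemma π_preimage (U : S.affineOpens) : π S ⁻¹ᵁ U = (chart S U).opensRange := by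
  simpa using! (glueData S).toBase_preimage_eq_opensRange_ι U

set_option backward.isDefEq.respectTransparency false in
instance isIntegralHom_π : IsIntegralHom (π S) := by
  rw [IsZariskiLocalAtTarget.iff_of_iSup_eq_top (P := @IsIntegralHom) _
    (iSup_affineOpens_eq_top _)]
  intro U
  let e := IsOpenImmersion.isoOfRangeEq (π S ⁻¹ᵁ U).ι (chart S U)
      (by simpa using congr($(π_preimage S U).1))
  rw [← MorphismProperty.cancel_left_of_respectsIso @IsIntegralHom e.inv,
    ← MorphismProperty.cancel_right_of_respectsIso @IsIntegralHom _ U.2.isoSpec.hom]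
  have : ((diagramMap S).app (.op U.1)).hom.IsIntegral := by
    change (algebraMap Γ(S, U) (integralClosure Γ(S, U) (Prd S U.1))).IsIntegral
    exact algebraMap_isIntegral_iff.mpr inferInstance
  convert! IsIntegralHom.SpecMap_iff.mpr this
  rw [← cancel_mono U.2.fromSpec]
  simp [IsAffineOpen.isoSpec_hom, e, chart_π]

instance surjective_π : Surjective (π S) := by
  refine ⟨fun s => ?_⟩
  obtain ⟨U, hU, hsU, -⟩ := exists_isAffineOpen_mem_and_subset (x := s) (U := ⊤) trivial
  let χ : integralClosure Γ(S, U) (Prd S U) →+* AlgebraicClosure (S.residueField s) :=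
    (Pi.evalRingHom _ (⟨s, hsU⟩ : (U : Set S))).comp
      (integralClosure Γ(S, U) (Prd S U)).val.toRingHom
  refine ⟨chart S ⟨U, hU⟩ (⟨RingHom.ker χ, RingHom.ker_isPrime χ⟩ : PrimeSpectrum _), ?_⟩
  change (chart S ⟨U, hU⟩ ≫ π S) _ = s
  rw [chart_π]
  change hU.fromSpec _ = s
  refine Eq.trans ?_ (hU.fromSpec_primeIdealOf ⟨s, hsU⟩)
  congr 1
  refine PrimeSpectrum.ext (Ideal.ext fun a => ?_)
  show algebraMap _ _ (S.evaluation U s hsU a) = 0 ↔ _
  rw [map_eq_zero, S.evaluation_eq_zero_iff_notMem_basicOpen s hsU a, ← not_iff_not, not_not]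
  conv_lhs => rw [show s = hU.fromSpec (hU.primeIdealOf ⟨s, hsU⟩) from
    (hU.fromSpec_primeIdealOf ⟨s, hsU⟩).symm]
  show hU.primeIdealOf ⟨s, hsU⟩ ∈ hU.fromSpec ⁻¹ᵁ S.basicOpen a ↔ _
  rw [hU.fromSpec_preimage_basicOpen]
  rfl

lemma hasMonicRoots_integralClosure (U : S.Opens) :
    HasMonicRoots (integralClosure Γ(S, U) (Prd S U)) := by
  intro p hp hdeg
  have : ∀ s : (U : Set S), ∃ x : AlgebraicClosure (S.residueField s.1),
      (p.map ((Pi.evalRingHom _ s).comp (integralClosure Γ(S, U) (Prd S U)).val.toRingHom)).IsRoot x :=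
    fun s => IsAlgClosed.exists_root _ fun h => hdeg (by
      rw [← hp.natDegree_map ((Pi.evalRingHom _ s).comp
        (integralClosure Γ(S, U) (Prd S U)).val.toRingHom)]
      exact Polynomial.natDegree_eq_of_degree_eq_some h)
  choose x hx using this
  have hroot : Polynomial.eval₂ (integralClosure Γ(S, U) (Prd S U)).val.toRingHom x p = 0 := by
    funext s
    show Pi.evalRingHom _ s (Polynomial.eval₂ _ x p) = 0
    rw [Polynomial.hom_eval₂, ← Polynomial.eval_map]
    exact hx s
  have hint : IsIntegral (integralClosure Γ(S, U) (Prd S U)) x := ⟨p, hp, hroot⟩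
  refine ⟨⟨x, isIntegral_trans x hint⟩, Subtype.ext ?_⟩
  show (integralClosure Γ(S, U) (Prd S U)).val.toRingHom
    (Polynomial.eval₂ (RingHom.id _) ⟨x, isIntegral_trans x hint⟩ p) = 0
  rw [Polynomial.hom_eval₂, RingHom.comp_id]
  exact hroot

lemma hasSplitting_integralClosure (U : S.Opens) :
    HasSplitting (integralClosure Γ(S, U) (Prd S U)) := by
  classical
  intro a b hab
  let e : Prd S U := fun s => if a.1 s = 0 then 0 else 1
  have he : e * e = e := by
    funext s
    show (if a.1 s = 0 then (0 : AlgebraicClosure _) else 1) * (if a.1 s = 0 then 0 else 1) = _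
    split_ifs <;> simp [e, *]
  have hint : IsIntegral Γ(S, U) e :=
    ⟨Polynomial.X ^ 2 - Polynomial.X, Polynomial.monic_X_pow_sub (Polynomial.degree_X_le.trans_lt (by norm_num)), by simp [sq, he]⟩
  refine ⟨⟨e, hint⟩, Subtype.ext he, Subtype.ext ?_, Subtype.ext ?_⟩
  · funext s
    show (if a.1 s = 0 then (0 : AlgebraicClosure _) else 1) * a.1 s = a.1 s
    split_ifs with h <;> simp [h]
  · funext s
    show (if a.1 s = 0 then (0 : AlgebraicClosure _) else 1) * b.1 s = 0
    split_ifs with h
    · simp
    · have : a.1 s * b.1 s = 0 := congrFun (congrArg Subtype.val hab) s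
      simpa [h] using this

end GrothLib.AicCover
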